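import Mathlib.LinearAlgebra.FiniteDimensional.Lemmas
import Mathlib.LinearAlgebra.Finsupp.LinearCombination
import Mathlib.RingTheory.Ideal.Maps
import Mathlib.RingTheory.Finiteness.Basic

/-!
# A diagonal element avoiding countably many candidate germs
-/

set_option autoImplicit false
set_option linter.style.haveILetI false

universe u

noncomputable section

namespace GrothLib.TowerML0

open Submodule

variable {k A M C : Type u} [Field k] [CommRing A] [Algebra k A] [AddCommGroup M] [Module A M]
  [AddCommGroup C] [Module k C] (fst : C →ₗ[k] A)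
  {N : ℕ → Type u} [∀ j, AddCommGroup (N j)] [∀ j, Module A (N j)] [∀ j, Module k (N j)]
  [∀ j, IsScalarTower k A (N j)]
  (π : ∀ j, M →ₗ[A] N j) (snd : ∀ j, C →ₗ[k] N j) (m : ℕ → M)

/-- The partial sums attached to a sequence of bits. -/
def part (a : ℕ → Bool) (i : ℕ) : M := ∑ l ∈ Finset.range i, if a l then m l else 0

theorem part_congr {a b : ℕ → Bool} {i : ℕ} (h : ∀ l < i, a l = b l) : part m a i = part m b i :=
  Finset.sum_congr rfl fun l hl => by rw [h l (Finset.mem_range.1 hl)]

/-- The defect of a candidate at step `j`. -/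
def test (j : ℕ) (y : M) : C →ₗ[k] N j where
  toFun p := fst p • π j y - snd j p
  map_add' p q := by simp only [map_add, add_smul]; abel
  map_smul' c p := by simp only [map_smul, RingHom.id_apply, smul_assoc, smul_sub]

/-- The candidates in `W` surviving the tests in `[e, L)`. -/
def surv (a : ℕ → Bool) (W : Submodule k C) (e L : ℕ) : Submodule k C :=
  W ⊓ ⨅ j ∈ Set.Ico e L, LinearMap.ker (test fst π snd j (part m a (j + 1)))

theorem mem_surv {a : ℕ → Bool} {W : Submodule k C} {e L : ℕ} {p : C} :
    p ∈ surv fst π snd m a W e L ↔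
      p ∈ W ∧ ∀ j, e ≤ j → j < L → fst p • π j (part m a (j + 1)) - snd j p = 0 := by
  simp [surv, test, Submodule.mem_iInf]

variable (x : ℕ → Ideal A) (J : Ideal A) (hx : ∀ j, ∀ f ∉ x j, f • π j (m j) ≠ 0)
  (hJ : ∀ f ∉ J, ∃ e, ∀ j, e ≤ j → f ∉ x j)

include hx hJ in
theorem exists_kill (W : Submodule k C) [FiniteDimensional k W] (e : ℕ) (a : ℕ → Bool) (L : ℕ) :
    ∃ (a' : ℕ → Bool) (L' : ℕ), L ≤ L' ∧ (∀ l < L, a' l = a l) ∧
      ∀ p ∈ surv fst π snd m a' W e L', fst p ∈ J := by
  generalize hd : Module.finrank k (surv fst π snd m a W e L) = d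
  induction d using Nat.strong_induction_on generalizing a L with
  | _ d ih =>
    by_cases hall : ∀ p ∈ surv fst π snd m a W e L, fst p ∈ J
    · exact ⟨a, L, le_rfl, fun _ _ => rfl, hall⟩
    push Not at hall
    obtain ⟨p, hp, hpJ⟩ := hall
    obtain ⟨e₀, he₀⟩ := hJ (fst p) hpJ
    let j := max (max e L) e₀
    have hje : e ≤ j := (le_max_left e L).trans (le_max_left _ _)
    have hjL : L ≤ j := (le_max_right e L).trans (le_max_left _ _)
    have hjx : fst p ∉ x j := he₀ j (le_max_right _ _)
    obtain ⟨b, hb⟩ : ∃ b : Bool,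
        fst p • π j (part m (Function.update a j b) (j + 1)) - snd j p ≠ 0 := by
      by_contra hcon
      push Not at hcon
      have e1 : ∀ b : Bool, part m (Function.update a j b) (j + 1) = part m a j + if b then m j else 0 :=
        fun b => by
        rw [part, Finset.sum_range_succ, Function.update_self]
        congr 1
        exact Finset.sum_congr rfl fun l hl => by
          rw [Function.update_of_ne (Finset.mem_range.1 hl).ne]
      have h := (hcon true).trans (hcon false).symm
      rw [e1, e1] at h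
      simp only [↓reduceIte, Bool.false_eq_true, add_zero, map_add, smul_add, sub_left_inj, add_eq_left] at h
      exact hx j _ hjx h
    let a₁ := Function.update a j b
    have hagree : ∀ l < L, a₁ l = a l := fun l hl =>
      Function.update_of_ne (lt_of_lt_of_le hl hjL).ne _ _
    have hsub : surv fst π snd m a₁ W e (j + 1) ≤ surv fst π snd m a W e L := fun q hq => by
      rw [mem_surv] at hq ⊢
      refine ⟨hq.1, fun i hi hiL => ?_⟩
      have := hq.2 i hi (by omega)
      rwa [part_congr m (a := a₁) (b := a) (i := i + 1) (fun l hl => hagree l (by omega))] at this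
    have hlt : surv fst π snd m a₁ W e (j + 1) < surv fst π snd m a W e L :=
      lt_of_le_of_ne hsub fun heq => hb ((mem_surv fst π snd m).1 (heq.ge hp) |>.2 j hje (by omega))
    haveI : FiniteDimensional k (surv fst π snd m a W e L) :=
      Submodule.finiteDimensional_of_le (inf_le_left : surv fst π snd m a W e L ≤ W)
    obtain ⟨a', L', hL', hag, hkill⟩ := ih _ (hd ▸ Submodule.finrank_lt_finrank_of_lt hlt) a₁ (j + 1) rfl
    exact ⟨a', L', by omega, fun l hl => (hag l (by omega)).trans (hagree l hl), hkill⟩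

variable (W : ℕ → Submodule k C) [∀ e, FiniteDimensional k (W e)]

include hx hJ in
/-- A sequence of bits defeating every candidate. -/
theorem exists_bits (hW : ∀ p : C, ∀ e, ∃ i, e ≤ i ∧ p ∈ W i) :
    ∃ a : ℕ → Bool, ∀ p : C, fst p ∉ J → ∀ e : ℕ,
      ∃ j, e ≤ j ∧ fst p • π j (part m a (j + 1)) - snd j p ≠ 0 := by
  classical
  choose A' L' hL hag hk using fun (e : ℕ) (s : (ℕ → Bool) × ℕ) =>
    exists_kill fst π snd m x J hx hJ (W e) e s.1 (s.2 + 1)
  let s : ℕ → (ℕ → Bool) × ℕ := fun e => Nat.rec (fun _ => false, 0) (fun e r => (A' e r, L' e r)) e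
  have hmono : ∀ e, (s e).2 < (s (e + 1)).2 := fun e => hL e (s e)
  have hge : ∀ e, e ≤ (s e).2 := fun e => by
    induction e with
    | zero => exact le_rfl
    | succ e ih => exact Nat.succ_le_of_lt (lt_of_le_of_lt ih (hmono e))
  have hstep : ∀ e d, ∀ l < (s e).2, (s (e + d)).1 l = (s e).1 l := by
    intro e d
    induction d with
    | zero => intro l _; rfl
    | succ d ih =>
      intro l hl
      have h2 : (s e).2 ≤ (s (e + d)).2 :=
        monotone_nat_of_le_succ (f := fun e => (s e).2) (fun e => (hmono e).le) (Nat.le_add_right e d)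
      exact (hag (e + d) (s (e + d)) l (by omega)).trans (ih l hl)
  let a : ℕ → Bool := fun l => (s (l + 1)).1 l
  have ha : ∀ e, ∀ l < (s e).2, a l = (s e).1 l := fun e l hl => by
    rcases le_total e (l + 1) with h | h
    · obtain ⟨d, hd⟩ := Nat.exists_eq_add_of_le h
      show (s (l + 1)).1 l = _
      rw [hd]
      exact hstep e d l hl
    · obtain ⟨d, hd⟩ := Nat.exists_eq_add_of_le h
      subst hd
      exact (hstep (l + 1) d l (Nat.lt_of_succ_le (hge (l + 1)))).symm
  refine ⟨a, fun p hp e => ?_⟩
  obtain ⟨i, hi, hiW⟩ := hW p e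
  have hns : p ∉ surv fst π snd m (s (i + 1)).1 (W i) i (s (i + 1)).2 := fun h => hp (hk i (s i) _ h)
  rw [mem_surv] at hns
  push Not at hns
  obtain ⟨j, hj, hjL, hbad⟩ := hns hiW
  refine ⟨j, hi.trans hj, ?_⟩
  rwa [part_congr m (a := a) (b := (s (i + 1)).1) (fun l hl => ha (i + 1) l (by omega))]

end GrothLib.TowerML0
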