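import Groth.Agent.Lib.TowerML0.Tower
import Groth.Agent.Lib.OX.QCohFun

/-!
# The first derived limit of a countable tower detects the Mittag-Leffler condition
-/

set_option autoImplicit false
set_option backward.isDefEq.respectTransparency false
set_option linter.style.haveILetI false

universe u

open CategoryTheory CategoryTheory.Limits AlgebraicGeometry Opposite TopologicalSpace
open GrothLib
open GrothLib.QCoh (appLinear stalkLin stalkLin_germ)
open GrothLib.TowerDiag0 (piAt piAt_comp)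
open scoped Pointwise

noncomputable section

namespace GrothLib.TowerML0

/-- Countable systems with the Mittag-Leffler condition have no first derived limit. -/
theorem exists_diff_eq {G : ℕ → Type*} [∀ i, AddCommGroup (G i)] (f : ∀ {i j : ℕ}, i ≤ j → G j →+ G i)
    (hid : ∀ i (x : G i), f (le_refl i) x = x)
    (hc : ∀ {i j l : ℕ} (h₁ : i ≤ j) (h₂ : j ≤ l) (x : G l), f h₁ (f h₂ x) = f (h₁.trans h₂) x)
    (hML : ∀ n, ∃ m, ∃ hm : n ≤ m, ∀ m' (hm' : m ≤ m') (x : G m), ∃ y, f (hm.trans hm') y = f hm x)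
    (z : ∀ i, G i) : ∃ y : ∀ i, G i, ∀ i, y i - f (Nat.le_succ i) (y (i + 1)) = z i := by
  classical
  choose m hm hst using hML
  have hex : ∀ n, ∃ y : G n, ∀ M, ∃ s : G n, (∀ M', m n ≤ M' → ∀ h : n ≤ M', ∃ w, f h w = s) ∧
      (m n ≤ M → y - ∑ i ∈ Finset.Ico n M, (if h : n ≤ i then f h (z i) else 0) = s) := by
    intro n
    refine ⟨∑ i ∈ Finset.Ico n (m n), (if h : n ≤ i then f h (z i) else 0), fun M => ?_⟩
    by_cases hM : m n ≤ M
    · refine ⟨_, fun M' hM' h => ?_, fun _ => rfl⟩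
      have hin : ∀ i, m n ≤ i → ∃ w, f h w = (if h : n ≤ i then f h (z i) else 0) := fun i hi => by
        rw [dif_pos ((hm n).trans hi), ← hc (hm n) hi]
        exact hst n M' hM' _
      choose w hw using hin
      refine ⟨-∑ i ∈ (Finset.Ico (m n) M).attach, w i.1 (Finset.mem_Ico.1 i.2).1, ?_⟩
      rw [← Finset.sum_Ico_consecutive _ (hm n) hM, map_neg, map_sum, sub_add_cancel_left,
        ← Finset.sum_attach (Finset.Ico (m n) M)]
      exact congrArg Neg.neg (Finset.sum_congr rfl fun i _ => hw _ _)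
    · exact ⟨0, fun M' _ h => ⟨0, map_zero _⟩, fun h => absurd h hM⟩
  choose y₁ hy₁ using hex
  -- the error lies in the stable images
  have herr : ∀ n, ∀ M' (h : n ≤ M'), ∃ w, f h w = z n - (y₁ n - f (Nat.le_succ n) (y₁ (n + 1))) := by
    intro n M' h
    let M := max (m n) (m (n + 1))
    let K := max M' (max (m n) (m (n + 1)))
    obtain ⟨s, hs, es⟩ := hy₁ n M
    obtain ⟨s', hs', es'⟩ := hy₁ (n + 1) M
    have hnK : n ≤ K := h.trans (le_max_left _ _)
    have hn1K : n + 1 ≤ K := ((hm (n + 1)).trans (le_max_right _ _)).trans (le_max_right _ _)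
    obtain ⟨a, ha⟩ := hs K ((le_max_left _ _).trans (le_max_right _ _)) hnK
    obtain ⟨b, hb⟩ := hs' K ((le_max_right _ _).trans (le_max_right _ _)) hn1K
    refine ⟨f (le_max_left M' _) (b - a), ?_⟩
    have hnM : n < M := Nat.lt_of_succ_le ((hm (n + 1)).trans (le_max_right _ _))
    have e : ∑ i ∈ Finset.Ico n M, (if h : n ≤ i then f h (z i) else 0) =
        z n + f (Nat.le_succ n) (∑ i ∈ Finset.Ico (n + 1) M, (if h : n + 1 ≤ i then f h (z i) else 0)) := by
      rw [Finset.sum_eq_sum_Ico_succ_bot hnM, dif_pos le_rfl, hid, map_sum]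
      congr 1
      refine Finset.sum_congr rfl fun i hi => ?_
      have hi1 := (Finset.mem_Ico.1 hi).1
      rw [dif_pos hi1, dif_pos ((Nat.le_succ n).trans hi1), hc]
    rw [hc, map_sub, ha, show f (h.trans (le_max_left M' _)) b = f (Nat.le_succ n) (f hn1K b) from (hc _ _ _).symm, hb,
      ← es (le_max_left _ _), ← es' (le_max_right _ _), e, map_sub]
    abel
  have hnext : ∀ n (c : G n), (∀ M' (h : n ≤ M'), ∃ w, f h w = c) →
      ∃ d : G (n + 1), f (Nat.le_succ n) d = c ∧ ∀ M' (h : n + 1 ≤ M'), ∃ w, f h w = d := fun n c hcst => by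
    obtain ⟨w, hw⟩ := hcst (m (n + 1)) ((Nat.le_succ n).trans (hm (n + 1)))
    refine ⟨f (hm (n + 1)) w, by rw [hc]; exact hw, fun M' h => ?_⟩
    obtain ⟨v, hv⟩ := hst (n + 1) (max M' (m (n + 1))) (le_max_right _ _) w
    exact ⟨f (le_max_left _ _) v, by rw [hc]; exact hv⟩
  choose d hd hdst using hnext
  let err : ∀ n, G n := fun n => z n - (y₁ n - f (Nat.le_succ n) (y₁ (n + 1)))
  have hsub : ∀ n (c : G n), (∀ M' (h : n ≤ M'), ∃ w, f h w = c) →
      ∀ M' (h : n ≤ M'), ∃ w, f h w = c - err n := fun n c hcst M' h => by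
    obtain ⟨a, ha⟩ := hcst M' h
    obtain ⟨b, hb⟩ := herr n M' h
    exact ⟨a - b, by rw [map_sub, ha, hb]⟩
  let seq : ∀ n, {c : G n // ∀ M' (h : n ≤ M'), ∃ w, f h w = c} := fun n =>
    Nat.rec ⟨0, fun _ _ => ⟨0, map_zero _⟩⟩
      (fun n c => ⟨d n _ (hsub n c.1 c.2), hdst n _ (hsub n c.1 c.2)⟩) n
  refine ⟨fun n => y₁ n + (seq n).1, fun n => ?_⟩
  show (y₁ n + (seq n).1) - f (Nat.le_succ n) (y₁ (n + 1) + d n _ (hsub n (seq n).1 (seq n).2)) = z n
  rw [map_add, hd]
  simp only [err]
  abel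

theorem exists_countable_span (k : Type u) [Field k] (A : Type u) [CommRing A] [Algebra k A]
    [Algebra.FiniteType k A] : ∃ S : Set A, S.Countable ∧ Submodule.span k S = ⊤ := by
  obtain ⟨r, φ, hφ⟩ := Algebra.FiniteType.iff_quotient_mvPolynomial''.1 (‹Algebra.FiniteType k A›)
  refine ⟨φ.toLinearMap '' Set.range (fun d => MvPolynomial.monomial d (1 : k)), (Set.countable_range _).image _, ?_⟩
  rw [Submodule.span_image, show Submodule.span k (Set.range fun d => MvPolynomial.monomial d (1 : k)) = ⊤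
      from (MvPolynomial.basisMonomials (Fin r) k).span_eq, Submodule.map_top,
      LinearMap.range_eq_top.2 (fun a => hφ a)]

variable {X : Scheme.{u}} (F : ℕᵒᵖ ⥤ X.Modules)

theorem epi_towerDiff (hF : ∀ l, Coh.IsQCoh (F.obj (op l)))
    (hML : ∀ n : ℕ, ∃ (m : ℕ) (hm : n ≤ m), ∀ (m' : ℕ) (hm' : m ≤ m'),
      imageSubobject (F.map (homOfLE (hm.trans hm')).op) = imageSubobject (F.map (homOfLE hm).op)) :
    Epi (LimSh.towerDiffSh F) := by
  classical
  haveI := fun l => hF l
  refine (OX.epi_iff _).2 fun x => (ModuleCat.epi_iff_surjective _).2 fun e => ?_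
  obtain ⟨W, hxW, s, rfl⟩ := TopCat.Presheaf.exists_germ_eq (∏ᶜ fun l : ℕ => F.obj (op l)).presheaf e
  obtain ⟨V, hV, hxV, hVW⟩ := exists_isAffineOpen_mem_and_subset hxW
  let P := ∏ᶜ fun l : ℕ => F.obj (op l)
  let s' : Γ(P, V) := P.presheaf.map (homOfLE hVW).op s
  obtain ⟨y, hy⟩ := exists_diff_eq (G := fun i => Γ(F.obj (op i), V))
    (fun {i j} h => ((tr F h).app V).hom)
    (fun i z => by
      show (Scheme.Modules.Hom.app (F.map (𝟙 (op i))) V) z = z
      rw [CategoryTheory.Functor.map_id]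
      rfl)
    (fun {i j l} h₁ h₂ z => by
      show (Scheme.Modules.Hom.app (tr F h₁) V) ((Scheme.Modules.Hom.app (tr F h₂) V) z) = _
      rw [← ConcreteCategory.comp_apply, ← Scheme.Modules.Hom.comp_app, tr_comp]
      )
    (fun n => by
      obtain ⟨m, hm, h⟩ := hML n
      refine ⟨m, hm, fun m' hm' z => exists_app_eq (tr F (hm.trans hm')) hV _ ?_⟩
      show Scheme.Modules.Hom.app (cokernel.π (tr F (hm.trans hm'))) V ((tr F hm).app V z) = 0
      rw [← ConcreteCategory.comp_apply, ← Scheme.Modules.Hom.comp_app, comp_cokernel_π_of_eq _ _ (h m' hm').symm,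
        Scheme.Modules.Hom.zero_app]
      rfl)
    (fun i => (Pi.π (fun l : ℕ => F.obj (op l)) i).app V s')
  obtain ⟨t, ht⟩ := exists_pi_section F V y
  refine ⟨P.presheaf.germ V x hxV t, ?_⟩
  show stalkLin (LimSh.towerDiffSh F) x (P.presheaf.germ V x hxV t) = _
  rw [stalkLin_germ]
  refine Eq.trans ?_ (TopCat.Presheaf.germ_res_apply P.presheaf (homOfLE hVW) x hxV s)
  congr 1
  obtain ⟨σ, hσ⟩ : ∃ σ, σ = (LimSh.towerDiffSh F).app V t := ⟨_, rfl⟩
  have hcomp : ∀ i, (Pi.π (fun l : ℕ => F.obj (op l)) i).app V σ = (Pi.π (fun l : ℕ => F.obj (op l)) i).app V s' := by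
    intro i
    rw [hσ, ← ConcreteCategory.comp_apply, ← Scheme.Modules.Hom.comp_app, diff_comp_pi, Scheme.Modules.Hom.sub_app]
    refine (congrArg₂ (· - ·) (ht i) ?_).trans (hy i)
    exact congrArg (fun w => (Scheme.Modules.Hom.app (tr F (Nat.le_succ i)) V) w) (ht (i + 1))
  rw [← hσ]
  let D : Discrete ℕ ⥤ X.Modules := Discrete.functor fun l : ℕ => F.obj (op l)
  let Φ : X.Modules ⥤ Type u := Scheme.Modules.toPresheaf X ⋙
    (CategoryTheory.evaluation _ _).obj (op V) ⋙ forget Ab.{u}
  haveI : PreservesLimitsOfSize.{0, 0} (Scheme.Modules.toPresheaf X) := preservesLimitsOfSize_shrink _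
  haveI : PreservesLimitsOfSize.{0, 0} (forget Ab.{u}) := preservesLimitsOfSize_shrink _
  haveI : PreservesLimitsOfShape (Discrete ℕ)
      ((CategoryTheory.evaluation (Opens X)ᵒᵖ Ab.{u}).obj (op V)) := inferInstance
  haveI : PreservesLimitsOfShape (Discrete ℕ) Φ := inferInstance
  exact (Types.isLimitEquivSections (isLimitOfPreserves Φ (limit.isLimit D))).injective
    (Subtype.ext (funext fun i => hcomp i.as))

variable (k : Type u) [Field k] [X.Over (Spec (CommRingCat.of k))]
  [LocallyOfFiniteType (X ↘ Spec (CommRingCat.of k))]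

include k in
/-- The limit of the quotient tower has countably generated germs. -/
theorem exists_family (hF : ∀ l, Coh.IsQCoh (F.obj (op l))) (n : ℕ)
    {U : X.Opens} (hU : IsAffineOpen U)
    (hFc : ∃ s : Set Γ(F.obj (op n), U), s.Countable ∧ Submodule.span Γ(X, U) s = ⊤)
    (hQq : Coh.IsQCoh (LimSh.limOneSh F))
    (hQc : ∃ s : Set Γ(LimSh.limOneSh F, U), s.Countable ∧ Submodule.span Γ(X, U) s = ⊤)
    (η : X) (hη : η ∈ U) : ∃ g : ℕ → (limit (quotTower F n)).presheaf.stalk η,
      ∀ e : (limit (quotTower F n)).presheaf.stalk η, ∃ (b : Γ(X, U)) (t : ℕ →₀ k), b ∉ WeakAss.primeAt η hη ∧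
        X.presheaf.germ U η hη b • e = t.sum fun l r => X.presheaf.germ U η hη (kHom k U r) • g l := by
  classical
  haveI := fun l => hF l
  haveI : (LimSh.limOneSh F).IsQuasicoherent := hQq
  let A := Γ(X, U)
  letI : Algebra k A := (kHom k U).toAlgebra
  haveI : Algebra.FiniteType k A := finiteType_kHom k hU
  let P := ∏ᶜ fun l : ℕ => F.obj (op l)
  let Q := LimSh.limOneSh F
  let L := limit (quotTower F n)
  let δ : P ⟶ P := LimSh.towerDiffSh F
  let q : P ⟶ Q := cokernel.π δ
  let ι := limit.lift (quotTower F n) (quotCone F n)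
  have hq : Function.Surjective (stalkLin q η) := by
    haveI : Epi q := inferInstanceAs (Epi (cokernel.π δ))
    haveI : Epi ((OX.stalk η).map q) := inferInstance
    exact (ModuleCat.epi_iff_surjective ((OX.stalk η).map q)).1 inferInstance
  have hker : ∀ p, stalkLin q η p = 0 → ∃ d, stalkLin δ η d = p := fun p hp => by
    have hS : (ShortComplex.mk δ q (cokernel.condition δ)).Exact :=
      ShortComplex.exact_of_g_is_cokernel _ (cokernelIsCokernel δ)
    exact (ShortComplex.moduleCat_exact_iff _).1 (hS.map (OX.stalk η)) p hp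
  obtain ⟨sQ, hsQ, hsQspan⟩ := hQc
  obtain ⟨sM, hsM, hsMspan⟩ := hFc
  choose lift hlift using hq
  letI : Module A (L.presheaf.stalk η) :=
    Module.compHom (L.presheaf.stalk η) (X.presheaf.germ U η hη).hom
  letI : Module k (L.presheaf.stalk η) := Module.compHom (L.presheaf.stalk η) (algebraMap k A)
  haveI : IsScalarTower k A (L.presheaf.stalk η) := IsScalarTower.of_algebraMap_smul fun _ _ => rfl
  have smulL : ∀ (a : A) (y : L.presheaf.stalk η), a • y = X.presheaf.germ U η hη a • y := fun _ _ => rfl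
  let base : Set (L.presheaf.stalk η) := insert 0
    ((fun s => stalkLin (psi F n) η (lift (Q.presheaf.germ U η hη s))) '' sQ ∪
      (fun s => stalkLin ι η ((F.obj (op n)).presheaf.germ U η hη s)) '' sM)
  obtain ⟨S, hS, hSspan⟩ := exists_countable_span k A
  let G : Set (L.presheaf.stalk η) := insert 0 (S • base)
  have hG : G.Countable := by
    refine Set.Countable.insert _ ?_
    rw [← Set.image2_smul]
    exact hS.image2 (((hsQ.image _).union (hsM.image _)).insert _) _
  have hGspan : ∀ y ∈ Submodule.span A base, y ∈ Submodule.span k G := fun y hy => by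
    refine Submodule.span_mono (Set.subset_insert _ _) ?_
    rw [Submodule.span_smul_of_span_eq_top hSspan base]
    exact hy
  obtain ⟨g, hg⟩ := hG.exists_eq_range ⟨0, Set.mem_insert _ _⟩
  refine ⟨g, fun e => ?_⟩
  -- lift the germ along the series map
  obtain ⟨x, hx⟩ : ∃ p, stalkLin (psi F n) η p = e := by
    obtain ⟨W, hW, σ, rfl⟩ := TopCat.Presheaf.exists_germ_eq L.presheaf e
    obtain ⟨V, hV, hηV, hVW⟩ := exists_isAffineOpen_mem_and_subset hW
    obtain ⟨t, ht⟩ := psi_surjective F n hF hV (L.presheaf.map (homOfLE hVW).op σ)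
    refine ⟨P.presheaf.germ V η hηV t, ?_⟩
    rw [stalkLin_germ, ht]
    exact TopCat.Presheaf.germ_res_apply L.presheaf (homOfLE hVW) η hηV σ
  obtain ⟨b₁, z, hb₁, hz⟩ := WeakAss.exists_smul_eq_germ hU hη (stalkLin q η x)
  -- a lift of the germ of a global section inside the span
  have hspanQ : ∀ z : Γ(Q, U), ∃ pz, stalkLin (psi F n) η pz ∈ Submodule.span A base ∧
      stalkLin q η pz = Q.presheaf.germ U η hη z := by
    intro z
    have hz' : z ∈ Submodule.span A sQ := hsQspan ▸ Submodule.mem_top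
    induction hz' using Submodule.span_induction with
    | mem s hs => exact ⟨lift _, Submodule.subset_span (Or.inr (Or.inl ⟨s, hs, rfl⟩)), hlift _⟩
    | zero => exact ⟨0, by rw [map_zero]; exact Submodule.zero_mem _, by rw [map_zero, map_zero]⟩
    | add a c _ _ ha hc =>
      obtain ⟨p₁, h₁, e₁⟩ := ha
      obtain ⟨p₂, h₂, e₂⟩ := hc
      exact ⟨p₁ + p₂, by rw [map_add]; exact Submodule.add_mem _ h₁ h₂, by rw [map_add, map_add, e₁, e₂]⟩
    | smul r a _ ha =>
      obtain ⟨p₁, h₁, e₁⟩ := ha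
      exact ⟨X.presheaf.germ U η hη r • p₁, by rw [map_smul, ← smulL]; exact Submodule.smul_mem _ r h₁,
        by rw [map_smul, e₁]; exact (WeakAss.germ_smul hη r a).symm⟩
  obtain ⟨pz, hpz, hqpz⟩ := hspanQ z
  obtain ⟨d, hd⟩ := hker (X.presheaf.germ U η hη b₁ • x - pz) (by rw [map_sub, map_smul, hz, hqpz, sub_self])
  obtain ⟨b₂, w, hb₂, hw⟩ := WeakAss.exists_smul_eq_germ hU hη (stalkLin (Pi.π (fun l : ℕ => F.obj (op l)) n) η d)
  have hιM : ∀ w : Γ(F.obj (op n), U),
      stalkLin ι η ((F.obj (op n)).presheaf.germ U η hη w) ∈ Submodule.span A base := by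
    intro w
    have hw' : w ∈ Submodule.span A sM := hsMspan ▸ Submodule.mem_top
    induction hw' using Submodule.span_induction with
    | mem s hs => exact Submodule.subset_span (Or.inr (Or.inr ⟨s, hs, rfl⟩))
    | zero => rw [map_zero, map_zero]; exact Submodule.zero_mem _
    | add a c _ _ ha hc => rw [map_add, map_add]; exact Submodule.add_mem _ ha hc
    | smul r a _ ha => rw [WeakAss.germ_smul, map_smul, ← smulL]; exact Submodule.smul_mem _ r ha
  have hcomm : stalkLin (psi F n) η (stalkLin δ η d) =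
      stalkLin ι η (stalkLin (Pi.π (fun l : ℕ => F.obj (op l)) n) η d) := by
    have e1 := congrArg (fun φ => ((OX.stalk η).map φ).hom d) (diff_comp_psi F n)
    simp only [Functor.map_comp, ModuleCat.hom_comp, LinearMap.comp_apply] at e1
    exact e1
  have hmem : (b₂ * b₁) • e ∈ Submodule.span A base := by
    have e1 : b₁ • e = stalkLin (psi F n) η pz +
        stalkLin ι η (stalkLin (Pi.π (fun l : ℕ => F.obj (op l)) n) η d) := by
      rw [← hcomm, hd, map_sub, map_smul, hx, add_sub_cancel, smulL]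
    rw [mul_smul, e1, smul_add]
    refine Submodule.add_mem _ (Submodule.smul_mem _ _ hpz) ?_
    rw [smulL, ← map_smul, hw]
    exact hιM w
  have hk := hGspan _ hmem
  rw [hg, Finsupp.mem_span_range_iff_exists_finsupp] at hk
  obtain ⟨t, ht⟩ := hk
  exact ⟨b₂ * b₁, t, fun h => (Ideal.IsPrime.mem_or_mem inferInstance h).elim hb₂ hb₁, ht.symm⟩

include k in
theorem mittagLeffler_of_countable [CompactSpace X] (hF : ∀ n : ℕ, Coh.IsQCoh (F.obj (op n)))
    (hFc : ∀ n : ℕ, ∀ U : X.affineOpens, ∃ s : Set Γ(F.obj (op n), (U : X.Opens)),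
      s.Countable ∧ Submodule.span Γ(X, (U : X.Opens)) s = ⊤)
    (hQq : Coh.IsQCoh (LimSh.limOneSh F))
    (hQc : ∀ U : X.affineOpens, ∃ s : Set Γ(LimSh.limOneSh F, (U : X.Opens)),
      s.Countable ∧ Submodule.span Γ(X, (U : X.Opens)) s = ⊤) (n : ℕ) :
    ∃ (m : ℕ) (hm : n ≤ m), ∀ (m' : ℕ) (hm' : m ≤ m'),
      imageSubobject (F.map (homOfLE (hm.trans hm')).op) = imageSubobject (F.map (homOfLE hm).op) := by
  classical
  haveI := fun l => hF l
  have hQ : ∀ i, Coh.IsQCoh ((quotTower F n).obj (op i)) := fun i =>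
    QCoh.isQuasicoherent_cokernel (tr F (Nat.le_add_right n i))
  haveI := fun i => hQ i
  let 𝒰 := X.affineCover.finiteSubcover
  let U : 𝒰.I₀ → X.affineOpens := fun i => ⟨(𝒰.f i).opensRange, isAffineOpen_opensRange _⟩
  choose N hN using fun i => exists_stable k (quotTower F n) (quotCone F n) hQ (U i).2
    (fun η hη => exists_family F k hF n (U i).2 (hFc n (U i)) hQq (hQc (U i)) η hη)
  let N₀ := Finset.univ.sup N
  refine ⟨n + N₀, Nat.le_add_right n N₀, fun m' hm' => ?_⟩
  have hiso : ∀ j, N₀ ≤ j → IsIso ((quotTower F n).map (homOfLE (Nat.le_succ j)).op) := fun j hj => by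
    refine QCoh.isIso_of_bijective_on_cover _ (fun i => ((U i : X.affineOpens) : X.Opens)) ?_ (fun i => (U i).2)
      fun i => ?_
    · exact 𝒰.iSup_opensRange
    have hsur : ∀ l, Function.Surjective (piAt (quotTower F n) (quotCone F n) (U i) l) := fun l => by
      let q : F.obj (op n) ⟶ (quotTower F n).obj (op l) := cokernel.π _
      haveI : Epi q := inferInstanceAs (Epi (cokernel.π _))
      exact ModDesc.app_surjective_of_epi q (U i).2
    refine ⟨(injective_iff_map_eq_zero _).2 fun q hq => ?_, fun q => ?_⟩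
    · obtain ⟨y, rfl⟩ := hsur (j + 1) q
      exact hN i j ((Finset.le_sup (Finset.mem_univ i)).trans hj)
        (LinearMap.mem_ker.2 ((piAt_comp _ (quotCone F n) _ (Nat.le_succ j) y).symm.trans hq))
    · obtain ⟨y, rfl⟩ := hsur j q
      exact ⟨piAt (quotTower F n) (quotCone F n) _ (j + 1) y, piAt_comp _ (quotCone F n) _ (Nat.le_succ j) y⟩
  have key : ∀ d, tr F (Nat.le_add_right n N₀) ≫ cokernel.π (tr F (Nat.le_add_right n (N₀ + d))) = 0 := by
    intro d
    induction d with
    | zero => exact cokernel.condition _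
    | succ d ih =>
      haveI := hiso (N₀ + d) (Nat.le_add_right _ _)
      have e : cokernel.π (tr F (Nat.le_add_right n (N₀ + d + 1))) ≫ (quotTower F n).map (homOfLE (Nat.le_succ (N₀ + d))).op =
          cokernel.π (tr F (Nat.le_add_right n (N₀ + d))) :=
        (quotCone F n).w (homOfLE (Nat.le_succ (N₀ + d))).op
      rw [← e, ← Category.assoc] at ih
      exact (cancel_mono ((quotTower F n).map (homOfLE (Nat.le_succ (N₀ + d))).op)).1 (ih.trans zero_comp.symm)
  obtain ⟨d, rfl⟩ := Nat.exists_eq_add_of_le hm'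
  refine imageSubobject_eq _ _ ?_ ?_
  · rw [show F.map (homOfLE ((Nat.le_add_right n N₀).trans hm')).op = tr F hm' ≫ tr F (Nat.le_add_right n N₀) from
      (tr_comp F _ _).symm, Category.assoc, cokernel.condition, comp_zero]
  · have : ∀ (l : ℕ) (h : n ≤ l), l = n + (N₀ + d) →
        tr F (Nat.le_add_right n N₀) ≫ cokernel.π (tr F h) = 0 := by
      rintro l h rfl
      exact key d
    exact this _ _ (Nat.add_assoc n N₀ d)

end GrothLib.TowerML0
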