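import Groth.Agent.Lib.TowerML0.Diag
import Groth.Agent.Lib.TowerDiag0.Sheaf

/-!
# Stability of a tower whose limit has countably generated germs
-/

set_option autoImplicit false
set_option backward.isDefEq.respectTransparency false
set_option linter.style.haveILetI false

universe u

open CategoryTheory CategoryTheory.Limits AlgebraicGeometry Opposite TopologicalSpace
open GrothLib.QCoh (appLinear stalkLin stalkLin_germ)

noncomputable section

namespace GrothLib.TowerML0

open GrothLib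
open GrothLib.TowerDiag0 (piAt piAt_comp exists_section exists_filtration)

variable (k : Type u) [Field k] {X : Scheme.{u}} [X.Over (Spec (CommRingCat.of k))]

/-- The structure map on the sections over an open. -/
def kHom (U : X.Opens) : k →+* Γ(X, U) :=
  ((X ↘ Spec (CommRingCat.of k)).appLE ⊤ U le_top).hom.comp (Scheme.ΓSpecIso (CommRingCat.of k)).inv.hom

theorem finiteType_kHom [LocallyOfFiniteType (X ↘ Spec (CommRingCat.of k))] {U : X.Opens}
    (hU : IsAffineOpen U) : (kHom k U).FiniteType :=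
  (LocallyOfFiniteType.finiteType_appLE (X ↘ Spec (CommRingCat.of k)) (isAffineOpen_top _) hU le_top).comp
    (RingHom.FiniteType.of_surjective _ (Scheme.ΓSpecIso (CommRingCat.of k)).commRingCatIsoToRingEquiv.symm.surjective)

/-- A filtration of `A × (ℕ →₀ k)` by finite-dimensional subspaces. -/
theorem exists_filtration_finsupp (A : Type u) [CommRing A] [Algebra k A] [Algebra.FiniteType k A] :
    ∃ W : ℕ → Submodule k (A × (ℕ →₀ k)), (∀ e, FiniteDimensional k (W e)) ∧
      ∀ p : A × (ℕ →₀ k), ∀ e, ∃ i, e ≤ i ∧ p ∈ W i := by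
  classical
  obtain ⟨W0, hW0, hW0ex⟩ := exists_filtration k (A := A) (M := A) {1} (Set.countable_singleton 1)
    (Submodule.eq_top_iff'.2 fun a => by
      simpa using Submodule.smul_mem (Submodule.span A {(1 : A)}) a (Submodule.mem_span_singleton_self 1))
  haveI := hW0
  let S : ℕ → Submodule k (ℕ →₀ k) := fun e =>
    Submodule.span k ((fun l => Finsupp.single l 1) '' (Finset.range e : Set ℕ))
  refine ⟨fun e => ((W0 e).map (LinearMap.fst k A A)).prod (S e), fun e => ?_, fun p e => ?_⟩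
  · haveI : FiniteDimensional k (S e) :=
      FiniteDimensional.span_of_finite k ((Finset.range e).finite_toSet.image _)
    exact Module.Finite.iff_fg.2 ((Module.Finite.iff_fg.1 inferInstance).prod (Module.Finite.iff_fg.1 (inferInstanceAs (FiniteDimensional k (S e)))))
  · obtain ⟨i, hi, hp⟩ := hW0ex (p.1, 0) (max e (p.2.support.sup id + 1))
    refine ⟨i, (le_max_left _ _).trans hi, Submodule.mem_prod.2 ⟨⟨_, hp, rfl⟩, ?_⟩⟩
    rw [← Finsupp.sum_single p.2, Finsupp.sum]
    refine Submodule.sum_mem _ fun l hl => ?_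
    rw [show Finsupp.single l (p.2 l) = p.2 l • Finsupp.single l (1 : k) by rw [Finsupp.smul_single, smul_eq_mul, mul_one]]
    refine Submodule.smul_mem _ _ (Submodule.subset_span ⟨l, Finset.mem_coe.2 (Finset.mem_range.2 ?_), rfl⟩)
    have h1 : l ≤ p.2.support.sup id := Finset.le_sup (f := id) hl
    omega

variable [LocallyOfFiniteType (X ↘ Spec (CommRingCat.of k))] (Q : ℕᵒᵖ ⥤ X.Modules) (c : Cone Q)

theorem exists_stable (hQ : ∀ n : ℕ, Coh.IsQCoh (Q.obj (op n)))
    {U : X.Opens} (hU : IsAffineOpen U)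
    (hfam : ∀ (η : X) (hη : η ∈ U), ∃ g : ℕ → (limit Q).presheaf.stalk η,
      ∀ e : (limit Q).presheaf.stalk η, ∃ (b : Γ(X, U)) (t : ℕ →₀ k), b ∉ WeakAss.primeAt η hη ∧
        X.presheaf.germ U η hη b • e = t.sum fun l r => X.presheaf.germ U η hη (kHom k U r) • g l) :
    ∃ N, ∀ i, N ≤ i → LinearMap.ker (piAt Q c U i) ≤ LinearMap.ker (piAt Q c U (i + 1)) := by
  classical
  haveI := fun n => hQ n
  let A := Γ(X, U)
  letI : Algebra k A := (kHom k U).toAlgebra
  haveI : Algebra.FiniteType k A := finiteType_kHom k hU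
  haveI : IsNoetherianRing A := Algebra.FiniteType.isNoetherianRing k A
  obtain ⟨W, hW, hWex⟩ := exists_filtration_finsupp k A
  haveI := hW
  let H : ℕ → Submodule A Γ(c.pt, U) := fun i => LinearMap.ker (piAt Q c U i)
  have hH : ∀ {i j : ℕ}, i ≤ j → H j ≤ H i := fun {i j} h y hy => by
    rw [LinearMap.mem_ker] at hy ⊢
    rw [← piAt_comp Q c U h y, hy, map_zero]
  by_contra hns
  push Not at hns
  obtain ⟨n, m, x, J, hn, hJp, hm, hxp, hx, hJ⟩ := TowerDiag0.exists_data H hns
  haveI := hxp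
  choose ξ hξ hξx using fun j => AssPts.exists_point hU (x j) (hxp j)
  obtain ⟨η, hη, hηJ⟩ := AssPts.exists_point hU J hJp
  obtain ⟨g, hg⟩ := hfam η hη
  choose V hηV τ hτ using fun l => TopCat.Presheaf.exists_germ_eq (limit Q).presheaf (g l)
  let N : ℕ → Type u := fun j => (Q.obj (op (n j + 1))).presheaf.stalk (ξ j)
  letI : ∀ j, Module A (N j) := fun j =>
    Module.compHom ((Q.obj (op (n j + 1))).presheaf.stalk (ξ j)) (X.presheaf.germ U (ξ j) (hξ j)).hom
  letI : ∀ j, Module k (N j) := fun j => Module.compHom (N j) (algebraMap k A)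
  haveI : ∀ j, IsScalarTower k A (N j) := fun j => IsScalarTower.of_algebraMap_smul fun _ _ => rfl
  have smulN : ∀ j (a : A) (y : (Q.obj (op (n j + 1))).presheaf.stalk (ξ j)),
      ((a • (y : N j) : N j) : (Q.obj (op (n j + 1))).presheaf.stalk (ξ j)) =
        X.presheaf.germ U (ξ j) (hξ j) a • y := fun _ _ _ => rfl
  let π : ∀ j, Γ(c.pt, U) →ₗ[A] N j := fun j =>
    { toFun := fun y => (Q.obj (op (n j + 1))).presheaf.germ U (ξ j) (hξ j) (piAt Q c U (n j + 1) y)
      map_add' := fun y z => by simp only [map_add]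
      map_smul' := fun a y => by
        rw [map_smul, WeakAss.germ_smul, RingHom.id_apply]
        exact (smulN j a _).symm }
  let v : ∀ j, ℕ → N j := fun j l => if h : ξ j ∈ V l then
    (Q.obj (op (n j + 1))).presheaf.germ (V l) (ξ j) h ((limit.π Q (op (n j + 1))).app (V l) (τ l)) else 0
  let fst : (A × (ℕ →₀ k)) →ₗ[k] A := LinearMap.fst k A (ℕ →₀ k)
  let snd : ∀ j, (A × (ℕ →₀ k)) →ₗ[k] N j := fun j =>
    (Finsupp.linearCombination k (v j)).comp (LinearMap.snd k A (ℕ →₀ k))
  have hπ : ∀ j, ∀ f ∉ x j, f • π j (m j) ≠ 0 := fun j f hf h0 => by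
    rw [← map_smul] at h0
    obtain ⟨w, hw, hwd⟩ := (WeakAss.germ_eq_zero_iff hU (hξ j) (piAt Q c U (n j + 1) (f • m j))).1 h0
    refine hx j (w * f) (fun h => ((hxp j).mem_or_mem h).elim (hξx j ▸ hw) hf) ?_
    show piAt Q c U (n j + 1) ((w * f) • m j) = 0
    rw [mul_smul, map_smul]
    exact hwd
  obtain ⟨a, ha⟩ := exists_bits (k := k) fst π snd m x J hπ hJ W hWex
  let P : ℕ → Γ(c.pt, U) := fun i => part m a i
  have hPstep : ∀ i l, i ≤ n l → ∀ d, P (l + d) - P l ∈ H i := fun i l hil d => by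
    induction d with
    | zero => simp
    | succ d ih =>
      have e : P (l + (d + 1)) - P l = (P (l + d) - P l) + (if a (l + d) then m (l + d) else 0) := by
        show part m a (l + d + 1) - _ = _
        rw [part, Finset.sum_range_succ]
        show _ + _ - P l = (P (l + d) - P l) + _
        simp only [P, part]
        abel
      rw [e]
      refine (H i).add_mem ih ?_
      split
      · exact hH (hil.trans (hn.monotone (Nat.le_add_right l d))) (hm _)
      · exact (H i).zero_mem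
  have hP : ∀ i l, i ≤ n l → piAt Q c U i (P l) = piAt Q c U i (P i) := fun i l hil => by
    have key : ∀ l₁ l₂, l₁ ≤ l₂ → i ≤ n l₁ → piAt Q c U i (P l₂) = piAt Q c U i (P l₁) := fun l₁ l₂ hle hi => by
      obtain ⟨d, rfl⟩ := Nat.exists_eq_add_of_le hle
      exact sub_eq_zero.1 (by rw [← map_sub]; exact LinearMap.mem_ker.1 (hPstep i l₁ hi d))
    have hi : i ≤ n i := hn.id_le i
    rcases le_total l i with h | h
    · exact (key l i h hil).symm
    · exact key i l h hi
  obtain ⟨σ, hσ⟩ := exists_section Q U (fun i => piAt Q c U i (P i)) fun i j h => by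
    rw [piAt_comp Q c U h]
    exact hP i j (h.trans (hn.id_le j))
  -- compare near the generic point of the obstruction
  obtain ⟨b, t, hb, ht⟩ := hg ((limit Q).presheaf.germ U η hη σ)
  let V₀ : X.Opens := U ⊓ t.support.inf V
  have hηV₀ : η ∈ V₀ := by
    refine ⟨hη, ?_⟩
    have hinf : ∀ s : Finset ℕ, η ∈ s.inf V := fun s => by
      induction s using Finset.induction_on with
      | empty => exact Set.mem_univ η
      | insert a s _ ih => rw [Finset.inf_insert]; exact ⟨hηV a, ih⟩
    exact hinf _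
  have hV₀le : ∀ l ∈ t.support, V₀ ≤ V l := fun l hl => inf_le_right.trans (Finset.inf_le hl)
  let rhs : Γ(limit Q, V₀) := ∑ l ∈ t.support.attach,
    (X.presheaf.map (homOfLE (inf_le_left : V₀ ≤ U)).op).hom (kHom k U (t l)) •
      (limit Q).presheaf.map (homOfLE (hV₀le l.1 l.2)).op (τ l)
  let lhs : Γ(limit Q, V₀) := (limit Q).presheaf.map (homOfLE (inf_le_left : V₀ ≤ U)).op (b • σ)
  have h1 : (limit Q).presheaf.germ V₀ η hηV₀ lhs = (limit Q).presheaf.germ V₀ η hηV₀ rhs := by
    rw [TopCat.Presheaf.germ_res_apply, WeakAss.germ_smul, ht, map_sum, Finsupp.sum,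
      ← Finset.sum_attach]
    refine Finset.sum_congr rfl fun l _ => ?_
    rw [WeakAss.germ_smul, TopCat.Presheaf.germ_res_apply, TopCat.Presheaf.germ_res_apply, hτ]
  obtain ⟨V₁, hηV₁, iV, iV₂, hVeq⟩ := TopCat.Presheaf.germ_eq (limit Q).presheaf η hηV₀ hηV₀ _ _ h1
  obtain ⟨f, hfV, hηf⟩ := hU.exists_basicOpen_le (⟨η, hηV₁⟩ : V₁) hη
  obtain ⟨e₁, he₁⟩ := hJ f (hηJ ▸ WeakAss.notMem_primeAt_iff.2 hηf)
  obtain ⟨j, hj, hbad⟩ := ha (b, t) (hηJ ▸ hb) e₁
  refine hbad ?_
  have hξf : ξ j ∈ X.basicOpen f := WeakAss.notMem_primeAt_iff.1 (hξx j ▸ he₁ j hj)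
  have hξV₁ : ξ j ∈ V₁ := hfV hξf
  have hξV₀ : ξ j ∈ V₀ := iV.le hξV₁
  let Lπ := limit.π Q (op (n j + 1))
  have e1 : piAt Q c U (n j + 1) (part m a (j + 1)) = piAt Q c U (n j + 1) (P (n j + 1)) :=
    hP (n j + 1) (j + 1) (hn (Nat.lt_succ_self j))
  have hleft : ((b • π j (part m a (j + 1)) : N j) : (Q.obj (op (n j + 1))).presheaf.stalk (ξ j)) =
      stalkLin Lπ (ξ j) ((limit Q).presheaf.germ V₀ (ξ j) hξV₀ lhs) := by
    rw [TopCat.Presheaf.germ_res_apply, WeakAss.germ_smul, map_smul, stalkLin_germ, hσ, ← e1]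
    exact smulN j b _
  have hright : ((snd j (b, t) : N j) : (Q.obj (op (n j + 1))).presheaf.stalk (ξ j)) =
      stalkLin Lπ (ξ j) ((limit Q).presheaf.germ V₀ (ξ j) hξV₀ rhs) := by
    rw [map_sum, map_sum]
    show Finsupp.linearCombination k (v j) t = _
    rw [Finsupp.linearCombination_apply, Finsupp.sum, ← Finset.sum_attach]
    refine Finset.sum_congr rfl fun l _ => ?_
    rw [WeakAss.germ_smul, TopCat.Presheaf.germ_res_apply, TopCat.Presheaf.germ_res_apply, map_smul,
      stalkLin_germ]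
    have hl : ξ j ∈ V l.1 := hV₀le l.1 l.2 hξV₀
    rw [show v j l.1 = _ from dif_pos hl]
    rfl
  show (b • π j (part m a (j + 1)) : N j) - snd j (b, t) = 0
  rw [sub_eq_zero]
  refine hleft.trans (Eq.trans ?_ hright.symm)
  rw [← TopCat.Presheaf.germ_res_apply (limit Q).presheaf iV (ξ j) hξV₁, hVeq,
    TopCat.Presheaf.germ_res_apply]

end GrothLib.TowerML0
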