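import Groth.Agent.Lib.TowerML0.Stable
import Groth.Prelude.Def_W4c2derhamsingLim
import Groth.Agent.Lib.ModDesc.Basic
import Groth.Agent.Lib.QCoh.Extension

/-!
# Mittag-Leffler towers and the first derived limit
-/

set_option autoImplicit false
set_option backward.isDefEq.respectTransparency false
set_option linter.style.haveILetI false

universe u

open CategoryTheory CategoryTheory.Limits AlgebraicGeometry Opposite TopologicalSpace
open GrothLib
open GrothLib.QCoh (appLinear stalkLin stalkLin_germ)
open GrothLib.TowerDiag0 (piAt piAt_comp exists_section)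
open scoped Pointwise

noncomputable section

namespace GrothLib.TowerML0

variable {X : Scheme.{u}}

/-- Sections over an affine open of quasi-coherent modules are exact at a cokernel. -/
theorem exists_app_eq {M N : X.Modules} [M.IsQuasicoherent] [N.IsQuasicoherent] (g : M ⟶ N)
    {U : X.Opens} (hU : IsAffineOpen U) (y : Γ(N, U)) (hy : (cokernel.π g).app U y = 0) :
    ∃ x, g.app U x = y := by
  haveI := QCoh.isQuasicoherent_cokernel g
  haveI := QCoh.isQuasicoherent_kernel (cokernel.π g)
  have hS : (ShortComplex.mk (kernel.ι (cokernel.π g)) (cokernel.π g) (kernel.condition _)).ShortExact :=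
    { exact := ShortComplex.exact_of_f_is_kernel _ (kernelIsKernel _) }
  obtain ⟨z, rfl⟩ := QCoh.app_exact hS U y hy
  let t : M ⟶ kernel (cokernel.π g) := Abelian.factorThruImage g
  haveI : Epi t := inferInstanceAs (Epi (Abelian.factorThruImage g))
  obtain ⟨x, hx⟩ := ModDesc.app_surjective_of_epi t hU z
  refine ⟨x, ?_⟩
  rw [← hx, ← ConcreteCategory.comp_apply, ← Scheme.Modules.Hom.comp_app]
  exact congrArg (fun φ => (Scheme.Modules.Hom.app φ U) x) (Abelian.image.fac g).symm

theorem app_cokernel_π {M N : X.Modules} (g : M ⟶ N) (U : X.Opens) (x : Γ(M, U)) :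
    (cokernel.π g).app U (g.app U x) = 0 := by
  rw [← ConcreteCategory.comp_apply, ← Scheme.Modules.Hom.comp_app, cokernel.condition,
    Scheme.Modules.Hom.zero_app]
  rfl

/-- Image subobjects agree when each map dies in the cokernel of the other. -/
theorem imageSubobject_eq {A B C : X.Modules} (f : A ⟶ C) (g : B ⟶ C) (h₁ : f ≫ cokernel.π g = 0)
    (h₂ : g ≫ cokernel.π f = 0) : imageSubobject f = imageSubobject g := by
  have key : ∀ {A B : X.Modules} (f : A ⟶ C) (g : B ⟶ C), f ≫ cokernel.π g = 0 →
      imageSubobject f ≤ imageSubobject g := by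
    intro A B f g h
    have hg : g ≫ cokernel.π (imageSubobject g).arrow = 0 := by
      have e := congrArg (fun φ => φ ≫ cokernel.π (imageSubobject g).arrow) (imageSubobject_arrow_comp g).symm
      rw [Category.assoc, cokernel.condition, comp_zero] at e
      exact e
    have hf : f ≫ cokernel.π (imageSubobject g).arrow = 0 := by
      rw [← cokernel.π_desc g (cokernel.π (imageSubobject g).arrow) hg, ← Category.assoc, h, zero_comp]
    exact imageSubobject_le f (Abelian.monoLift (imageSubobject g).arrow f hf)
      (Abelian.monoLift_comp _ _ _)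
  exact le_antisymm (key f g h₁) (key g f h₂)

theorem comp_cokernel_π_of_eq {A B C : X.Modules} (f : A ⟶ C) (g : B ⟶ C)
    (h : imageSubobject f = imageSubobject g) : f ≫ cokernel.π g = 0 := by
  have hg : (imageSubobject g).arrow ≫ cokernel.π g = 0 :=
    (cancel_epi (factorThruImageSubobject g)).1 (by
      rw [← Category.assoc, imageSubobject_arrow_comp, cokernel.condition, comp_zero])
  rw [← imageSubobject_arrow_comp f, ← Subobject.ofLE_arrow h.le, Category.assoc, Category.assoc, hg,
    comp_zero, comp_zero]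

variable (F : ℕᵒᵖ ⥤ X.Modules)

/-- The transition maps. -/
abbrev tr {i j : ℕ} (h : i ≤ j) : F.obj (op j) ⟶ F.obj (op i) := F.map (homOfLE h).op

theorem tr_comp {i j l : ℕ} (h₁ : i ≤ j) (h₂ : j ≤ l) : tr F h₂ ≫ tr F h₁ = tr F (h₁.trans h₂) :=
  (F.map_comp _ _).symm

variable (n : ℕ)

/-- The tower of quotients by images at level `n`. -/
def quotTower : ℕᵒᵖ ⥤ X.Modules where
  obj i := cokernel (tr F (Nat.le_add_right n i.unop))
  map {j i} f := cokernel.desc _ (cokernel.π (tr F (Nat.le_add_right n i.unop))) (by
    rw [← tr_comp F (Nat.le_add_right n i.unop) (Nat.add_le_add_left (leOfHom f.unop) n), Category.assoc,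
      cokernel.condition, comp_zero])
  map_id i := coequalizer.hom_ext (by simp)
  map_comp f g := coequalizer.hom_ext (by simp)

/-- The projections to the quotients. -/
def quotCone : Cone (quotTower F n) where
  pt := F.obj (op n)
  π :=
    { app := fun i => cokernel.π (tr F (Nat.le_add_right n i.unop))
      naturality := fun j i f => by simp [quotTower] }

/-- The `i`-th term of the series. -/
def term (i : ℕ) : (∏ᶜ fun l : ℕ => F.obj (op l)) ⟶ F.obj (op n) :=
  Pi.π (fun l : ℕ => F.obj (op l)) (n + i) ≫ tr F (Nat.le_add_right n i)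

theorem term_comp_π {i m : ℕ} (h : m ≤ i) : term F n i ≫ cokernel.π (tr F (Nat.le_add_right n m)) = 0 := by
  rw [term, Category.assoc, ← tr_comp F (Nat.le_add_right n m) (Nat.add_le_add_left h n), Category.assoc,
    cokernel.condition, comp_zero, comp_zero]

/-- The cone of partial sums. -/
def seriesCone : Cone (quotTower F n) where
  pt := ∏ᶜ fun l : ℕ => F.obj (op l)
  π :=
    { app := fun m => (∑ i ∈ Finset.range m.unop, term F n i) ≫ cokernel.π (tr F (Nat.le_add_right n m.unop))
      naturality := fun j m f => by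
        simp only [Functor.const_obj_map, quotTower, Category.id_comp, Category.assoc, cokernel.π_desc]
        rw [Preadditive.sum_comp, Preadditive.sum_comp]
        refine Finset.sum_subset (Finset.range_mono (leOfHom f.unop)) fun i _ hi => term_comp_π F n ?_
        simpa using hi }

/-- The map to the limit of the quotients. -/
def psi : (∏ᶜ fun l : ℕ => F.obj (op l)) ⟶ limit (quotTower F n) :=
  limit.lift (quotTower F n) (seriesCone F n)

theorem diff_comp_pi (l : ℕ) : LimSh.towerDiffSh F ≫ Pi.π (fun l : ℕ => F.obj (op l)) l =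
    Pi.π (fun l : ℕ => F.obj (op l)) l - Pi.π (fun l : ℕ => F.obj (op l)) (l + 1) ≫ tr F (Nat.le_succ l) := by
  rw [LimSh.towerDiffSh, Pi.lift_π]

theorem diff_comp_sum (m : ℕ) : LimSh.towerDiffSh F ≫ (∑ i ∈ Finset.range m, term F n i) =
    Pi.π (fun l : ℕ => F.obj (op l)) n - term F n m := by
  induction m with
  | zero =>
    rw [Finset.range_zero, Finset.sum_empty, comp_zero, term]
    show (0 : _ ⟶ _) = _ - Pi.π (fun l : ℕ => F.obj (op l)) n ≫ F.map (𝟙 (op n))
    rw [CategoryTheory.Functor.map_id, Category.comp_id, sub_self]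
  | succ m ih =>
    rw [Finset.sum_range_succ, Preadditive.comp_add, ih, term, ← Category.assoc, diff_comp_pi,
      Preadditive.sub_comp, Category.assoc, tr_comp, term]
    show _ = _ - Pi.π (fun l : ℕ => F.obj (op l)) (n + m + 1) ≫ _
    abel

theorem diff_comp_psi : LimSh.towerDiffSh F ≫ psi F n =
    Pi.π (fun l : ℕ => F.obj (op l)) n ≫ limit.lift (quotTower F n) (quotCone F n) :=
  limit.hom_ext fun m => by
    rw [Category.assoc, Category.assoc, psi, limit.lift_π, limit.lift_π]
    show _ ≫ (_ ≫ cokernel.π _) = _ ≫ cokernel.π _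
    rw [← Category.assoc, diff_comp_sum, Preadditive.sub_comp, term_comp_π F n le_rfl, sub_zero]

theorem exists_pi_section (U : X.Opens) (w : ∀ l, Γ(F.obj (op l), U)) :
    ∃ x : Γ(∏ᶜ fun l : ℕ => F.obj (op l), U), ∀ l, (Pi.π (fun l : ℕ => F.obj (op l)) l).app U x = w l := by
  let D : Discrete ℕ ⥤ X.Modules := Discrete.functor fun l : ℕ => F.obj (op l)
  let Φ : X.Modules ⥤ Type u := Scheme.Modules.toPresheaf X ⋙
    (CategoryTheory.evaluation _ _).obj (op U) ⋙ forget Ab.{u}
  haveI : PreservesLimitsOfSize.{0, 0} (Scheme.Modules.toPresheaf X) := preservesLimitsOfSize_shrink _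
  haveI : PreservesLimitsOfSize.{0, 0} (forget Ab.{u}) := preservesLimitsOfSize_shrink _
  haveI : PreservesLimitsOfShape (Discrete ℕ)
      ((CategoryTheory.evaluation (Opens X)ᵒᵖ Ab.{u}).obj (op U)) := inferInstance
  haveI : PreservesLimitsOfShape (Discrete ℕ) Φ := inferInstance
  have hl := isLimitOfPreserves Φ (limit.isLimit D)
  let sec : (D ⋙ Φ).sections := ⟨fun i => w i.as, fun {i j} φ => by
    obtain ⟨i⟩ := i; obtain ⟨j⟩ := j
    obtain rfl : i = j := Discrete.eq_of_hom φ
    rw [Subsingleton.elim φ (𝟙 _), CategoryTheory.Functor.map_id]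
    rfl⟩
  exact ⟨(Types.isLimitEquivSections hl).symm sec, fun l => Types.isLimitEquivSections_symm_apply hl sec ⟨l⟩⟩

theorem psi_surjective (hF : ∀ l, Coh.IsQCoh (F.obj (op l))) {U : X.Opens} (hU : IsAffineOpen U)
    (σ : Γ(limit (quotTower F n), U)) : ∃ x, (psi F n).app U x = σ := by
  classical
  haveI := fun l => hF l
  let L := limit.π (quotTower F n)
  let t : ∀ m, Γ((quotTower F n).obj (op m), U) := fun m => (L (op m)).app U σ
  let π : ∀ m, Γ(F.obj (op n), U) →+ Γ((quotTower F n).obj (op m), U) :=
    fun m => ((cokernel.π (tr F (Nat.le_add_right n m))).app U).hom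
  have hsurj : ∀ m, ∃ s, π m s = t m := fun m => by
    haveI : ((quotTower F n).obj (op m)).IsQuasicoherent :=
      QCoh.isQuasicoherent_cokernel (tr F (Nat.le_add_right n m))
    let q : F.obj (op n) ⟶ (quotTower F n).obj (op m) := cokernel.π (tr F (Nat.le_add_right n m))
    haveI : Epi q := inferInstanceAs (Epi (cokernel.π _))
    exact ModDesc.app_surjective_of_epi q hU (t m)
  choose s₀ hs₀ using hsurj
  let s : ℕ → Γ(F.obj (op n), U) := fun m => if m = 0 then 0 else s₀ m
  have hs : ∀ m, π m (s m) = t m := fun m => by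
    rcases Nat.eq_zero_or_pos m with rfl | hm
    · obtain ⟨y, hy⟩ : ∃ y, π 0 y = t 0 := ⟨s₀ 0, hs₀ 0⟩
      simp only [s, if_pos, map_zero]
      rw [← hy]
      symm
      have e : (tr F (Nat.le_add_right n 0)).app U y = y := by
        show (F.map (𝟙 (op n))).app U y = y
        rw [CategoryTheory.Functor.map_id]
        rfl
      show (cokernel.π (tr F (Nat.le_add_right n 0))).app U y = 0
      conv_lhs => rw [← e]
      exact app_cokernel_π _ U _
    · simp only [s, if_neg hm.ne']; exact hs₀ m
  have hstep : ∀ m, π m (s (m + 1) - s m) = 0 := fun m => by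
    rw [map_sub, hs m, sub_eq_zero]
    have e1 : ((quotTower F n).map (homOfLE (Nat.le_succ m)).op).app U (π (m + 1) (s (m + 1))) = π m (s (m + 1)) :=
      congrArg (fun φ => (Scheme.Modules.Hom.app φ U) (s (m + 1))) ((quotCone F n).w (homOfLE (Nat.le_succ m)).op)
    rw [← e1, hs (m + 1)]
    exact congrArg (fun φ => (Scheme.Modules.Hom.app φ U) σ) (limit.w (quotTower F n) (homOfLE (Nat.le_succ m)).op)
  choose w hw using fun m => exists_app_eq (tr F (Nat.le_add_right n m)) hU _ (hstep m)
  let w' : ∀ l, Γ(F.obj (op l), U) := fun l =>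
    if h : ∃ m, n + m = l then h.choose_spec ▸ w h.choose else 0
  have hw' : ∀ m, w' (n + m) = w m := fun m => by
    have h : ∃ m', n + m' = n + m := ⟨m, rfl⟩
    simp only [w', dif_pos h]
    have key : ∀ (m' : ℕ) (e : n + m' = n + m), (e ▸ w m' : Γ(F.obj (op (n + m)), U)) = w m := by
      intro m' e
      obtain rfl : m' = m := by omega
      rfl
    exact key _ h.choose_spec
  obtain ⟨x, hx⟩ := exists_pi_section F U w'
  have hsum : ∀ m, ((∑ i ∈ Finset.range m, term F n i : _ ⟶ F.obj (op n))).app U x = s m := by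
    intro m
    induction m with
    | zero =>
      rw [Finset.range_zero, Finset.sum_empty, Scheme.Modules.Hom.zero_app]
      simp [s]
    | succ m ih =>
      rw [Finset.sum_range_succ, Scheme.Modules.Hom.add_app]
      refine (congrArg₂ (· + ·) ih ?_).trans (show s m + (s (m + 1) - s m) = s (m + 1) by abel)
      show (Scheme.Modules.Hom.app (term F n m) U) x = _
      rw [term, Scheme.Modules.Hom.comp_app, ConcreteCategory.comp_apply, hx, hw', hw]
  -- equality in the limit is tested on components
  have inj : ∀ a b : Γ(limit (quotTower F n), U), (∀ m, (L (op m)).app U a = (L (op m)).app U b) → a = b := by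
    intro a b h
    let Φ : X.Modules ⥤ Type u := Scheme.Modules.toPresheaf X ⋙
      (CategoryTheory.evaluation _ _).obj (op U) ⋙ forget Ab.{u}
    haveI : PreservesLimitsOfSize.{0, 0} (Scheme.Modules.toPresheaf X) := preservesLimitsOfSize_shrink _
    haveI : PreservesLimitsOfSize.{0, 0} (forget Ab.{u}) := preservesLimitsOfSize_shrink _
    haveI : PreservesLimitsOfShape ℕᵒᵖ
        ((CategoryTheory.evaluation (Opens X)ᵒᵖ Ab.{u}).obj (op U)) := inferInstance
    haveI : PreservesLimitsOfShape ℕᵒᵖ Φ := inferInstance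
    exact (Types.isLimitEquivSections (isLimitOfPreserves Φ (limit.isLimit _))).injective
      (Subtype.ext (funext fun m => h m.unop))
  refine ⟨x, inj _ _ fun m => ?_⟩
  rw [← ConcreteCategory.comp_apply, ← Scheme.Modules.Hom.comp_app, psi, limit.lift_π]
  show ((∑ i ∈ Finset.range m, term F n i) ≫ cokernel.π (tr F (Nat.le_add_right n m))).app U x = _
  rw [Scheme.Modules.Hom.comp_app, ConcreteCategory.comp_apply, hsum]
  exact hs m

end GrothLib.TowerML0
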